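import Groth.Agent.Lib.StratVanish6.Filtration
import Groth.Agent.Lib.QCoh.ClosedImmersion
import Groth.Agent.Lib.Strat6.Qcqs
import Groth.Agent.Lib.Thickening.Affine
import Groth.Agent.Lib.Thickening.Morphisms
import Groth.Agent.Lib.FgSupport6.Exists
import Groth.Agent.Lib.Euler.Vanish

/-!
# Vanishing of cohomology above the affine stratification number
-/

set_option linter.style.haveILetI false

universe u

open CategoryTheory CategoryTheory.Limits Opposite AlgebraicGeometry TopologicalSpace

namespace GrothLib.StratVanish6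

open GrothLib.QCoh

/-- Quasi-coherent cohomology vanishes above degree `n`. -/
def VanishAbove (X : Scheme.{u}) (n : ℕ) : Prop :=
  ∀ (N : X.Modules), N.IsQuasicoherent → ∀ p, n < p → Subsingleton (Coh.HH X N p)

variable {A : Type u} [CommRing A] {X : Scheme.{u}} [X.Over (Spec (CommRingCat.of A))]

/-- Modules killed by an ideal only see the closed subscheme. -/
theorem subsingleton_HH_of_killed (I : X.IdealSheafData) {n : ℕ} (hZ : VanishAbove I.subscheme n)
    (Q : X.Modules) [Q.IsQuasicoherent] (hQ : ClSub.KilledByIdeal I Q) (p : ℕ) (hp : n < p) :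
    Subsingleton (Coh.HH X Q p) := by
  haveI := isIso_unit_of_killed I.subschemeι Q (by rwa [Scheme.IdealSheafData.ker_subschemeι])
  let N := (Scheme.Modules.pullback I.subschemeι).obj Q
  let e : Q ≅ (Scheme.Modules.pushforward I.subschemeι).obj N :=
    asIso ((Scheme.Modules.pullbackPushforwardAdjunction I.subschemeι).unit.app Q)
  haveI : ((Scheme.Modules.pushforward I.subschemeι).obj N).IsQuasicoherent := isQuasicoherent_of_iso e
  haveI : N.IsQuasicoherent := isQuasicoherent_of_pushforward I.subschemeι N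
  obtain ⟨e'⟩ := Cohom.nonempty_HH_equiv_pushforward I.subschemeι N p
  have : Subsingleton (Coh.HH I.subscheme N p) := hZ N inferInstance p hp
  have h2 : Subsingleton (Coh.HH X ((Scheme.Modules.pushforward I.subschemeι).obj N) p) :=
    e'.symm.toEquiv.subsingleton
  let e2 := (Sheaf.functorH (Opens.grothendieckTopology X) p).mapIso ((QCoh.toAbFun X).mapIso e)
  exact @Equiv.subsingleton _ _ e2.addCommGroupIsoToAddEquiv.toEquiv h2

include A in
theorem subsingleton_HH_killed_pow (M : X.Modules) [M.IsQuasicoherent] (I : X.IdealSheafData)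
    (hI : BlowUp.IsFiniteTypeIdeal I) {n : ℕ} (hZ : VanishAbove I.subscheme n) :
    ∀ (k p : ℕ), n < p → Subsingleton (Coh.HH X (killed M (I ^ (k + 1))).obj p) := by
  have hqc : ∀ k, ((killed M (I ^ k)).obj).IsQuasicoherent := fun k =>
    killed_isQuasicoherent_of_fg M _ (isFiniteTypeIdeal_pow I hI k)
  intro k
  induction k with
  | zero =>
    intro p hp
    have := hqc (0 + 1)
    refine subsingleton_HH_of_killed I hZ _ ?_ p hp
    have h := killed_killedByIdeal M (I ^ (0 + 1))
    rwa [zero_add, pow_one] at h ⊢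
  | succ k ih =>
    intro p hp
    have h1 := hqc (k + 1)
    have h2 := hqc (k + 1 + 1)
    let g := incl _ _ (killed_mono M I (Nat.le_succ (k + 1)))
    haveI : Mono g := mono_incl _ _ _
    let S := ShortComplex.mk g (cokernel.π g) (cokernel.condition g)
    have hS : S.ShortExact :=
      { exact := ShortComplex.exact_of_g_is_cokernel _ (cokernelIsCokernel g) }
    haveI : S.X₁.IsQuasicoherent := h1
    haveI : (cokernel g).IsQuasicoherent := isQuasicoherent_cokernel g
    have hQ : ClSub.KilledByIdeal I (cokernel g) := by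
      intro U a ha m
      obtain ⟨t, rfl⟩ := app_surjective_of_isAffineOpen hS U.2 m
      have hmem : a • (killed M (I ^ (k + 1 + 1))).ι.app U.1 t ∈ (killed M (I ^ (k + 1))).sec U.1 := by
        refine (killed_mem_iff M _ U _).2 fun b hb => ?_
        rw [smul_smul]
        refine (killed_mem_iff M _ U _).1 ((killed M (I ^ (k + 1 + 1))).ι_app_mem t) (b * a) ?_
        rw [Scheme.IdealSheafData.ideal_pow, Pi.pow_apply] at hb ⊢
        rw [pow_succ _ (k + 1)]
        exact Ideal.mul_mem_mul hb ha
      have ht : a • t = g.app U.1 ((killed M (I ^ (k + 1))).lift _ hmem) :=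
        (killed M (I ^ (k + 1 + 1))).ι_app_injective U.1
          ((appLinear (killed M (I ^ (k + 1 + 1))).ι U.1).map_smul a t)
      refine ((appLinear S.g U.1).map_smul a t).symm.trans ?_
      show S.g.app U.1 (a • t) = 0
      rw [ht]
      exact app_comp_zero U.1 _
    have : Subsingleton (Coh.HH X S.X₁ p) := ih p hp
    have : Subsingleton (Coh.HH X S.X₃ p) := subsingleton_HH_of_killed I hZ (cokernel g) hQ p hp
    exact Euler.subsingleton_of_exact (Cohom.exact₂ (A := A) hS p)

include A in
/-- Modules supported on the zero locus of a finite type ideal. -/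
theorem subsingleton_HH_of_supported [CompactSpace X] [QuasiSeparatedSpace X] (M : X.Modules)
    [M.IsQuasicoherent] (I : X.IdealSheafData) (hI : BlowUp.IsFiniteTypeIdeal I) {n : ℕ}
    (hZ : VanishAbove I.subscheme n) (hsupp : CohB1.support M ⊆ (I.support : Set X)) (p : ℕ)
    (hp : n < p) : Subsingleton (Coh.HH X M p) := by
  obtain ⟨hc⟩ := exists_isColimit M I hI hsupp
  haveI := SheafCoh.preservesColimitsOfSize_toSheaf.{u} X.ringCatSheaf
  have hpc : PreservesColimit (diag M I) (SheafOfModules.toSheaf.{u} X.ringCatSheaf) :=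
    (PreservesColimitsOfSize.preservesColimitsOfShape (J := ULift.{u} ℕ)
      (F := SheafOfModules.toSheaf.{u} X.ringCatSheaf)).preservesColimit (K := diag M I)
  let hc' := (hpc.preserves hc).some
  have hpG := ColimCoh.preservesColimit_cohomology_of_isQuasiSeparated (X := X) (W := (⊤ : Opens X))
    (isQuasiSeparated_univ_iff.2 inferInstance) CompactSpace.isCompact_univ
    (diag M I ⋙ SheafOfModules.toSheaf.{u} X.ringCatSheaf) p
  let G := (Sheaf.cohomologyPresheafFunctor (Opens.grothendieckTopology X) p).flip.obj (op (⊤ : Opens X))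
  let e : ∀ F : CohTop.Ab X, CohTop.H F p ≃+ ↑(G.obj F) := fun F =>
    SheafCoh.extPrecompIso (SheafCoh.freeYTerminalIso (J := Opens.grothendieckTopology X)
      (isTerminalTop (α := Opens X))) F p
  show Subsingleton (CohTop.H (Coh.toAb M) p)
  refine @Equiv.subsingleton _ _ (e (Coh.toAb M)).toEquiv (subsingleton_of_forall_eq 0 fun x => ?_)
  obtain ⟨k, y, hy⟩ := Concrete.isColimit_exists_rep _ (hpG.preserves hc').some x
  have hk : Subsingleton (CohTop.H (Coh.toAb ((diag M I).obj k)) p) :=
    subsingleton_HH_killed_pow (A := A) M I hI hZ k.down p hp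
  have : Subsingleton ↑(G.obj (Coh.toAb ((diag M I).obj k))) := (e _).symm.toEquiv.subsingleton
  rw [← hy, show y = 0 from Subsingleton.elim (α := ↑(G.obj (Coh.toAb ((diag M I).obj k)))) _ _]
  exact map_zero _

include A in
theorem subsingleton_X₁ {S : ShortComplex X.Modules} (hS : S.ShortExact) (m : ℕ)
    [Subsingleton (Coh.HH X S.X₃ m)] [Subsingleton (Coh.HH X S.X₂ (m + 1))] :
    Subsingleton (Coh.HH X S.X₁ (m + 1)) :=
  Euler.subsingleton_of_exact (Cohom.exact₁ (A := A) hS m)

include A in
theorem subsingleton_X₂ {S : ShortComplex X.Modules} (hS : S.ShortExact) (m : ℕ)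
    [Subsingleton (Coh.HH X S.X₁ m)] [Subsingleton (Coh.HH X S.X₃ m)] :
    Subsingleton (Coh.HH X S.X₂ m) :=
  Euler.subsingleton_of_exact (Cohom.exact₂ (A := A) hS m)

omit A X in
/-- An open with affine surjective closed subscheme, affinely included, is an affine open with
affine inclusion. -/
theorem isAffineOpen_and_isAffineHom {X Z : Scheme.{u}} (ι : Z ⟶ X) [IsImmersion ι] [IsAffine Z]
    [IsAffineHom ι] (U : X.Opens) (hr : Set.range ι = (U : Set X)) :
    IsAffineOpen U ∧ IsAffineHom U.ι := by
  let j : Z ⟶ U.toScheme := IsOpenImmersion.lift U.ι ι (by rw [Scheme.Opens.range_ι, hr])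
  have hj : j ≫ U.ι = ι := IsOpenImmersion.lift_fac _ _ _
  have hsurj : Function.Surjective j := fun z => by
    obtain ⟨w, hw⟩ := hr.symm.subset z.2
    refine ⟨w, U.ι.isOpenEmbedding.injective ?_⟩
    rw [← Scheme.Hom.comp_apply, hj]
    exact hw
  haveI : Surjective j := ⟨hsurj⟩
  haveI : IsImmersion (j ≫ U.ι) := hj.symm ▸ inferInstance
  haveI : IsImmersion j := IsImmersion.of_comp j U.ι
  haveI : IsClosedImmersion j :=
    IsClosedImmersion.of_isPreimmersion j (by rw [hsurj.range_eq]; exact isClosed_univ)
  have hU : IsAffineOpen U := Thickening.isAffine_of_thickening j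
  refine ⟨hU, ?_⟩
  haveI : IsAffineHom (j ≫ U.ι) := hj.symm ▸ inferInstance
  exact (Thickening.isAffineHom_comp_iff j U.ι).1 inferInstance

omit A X in
/-- Cohomology vanishes above the affine stratification number. -/
theorem vanishAbove (n : ℕ) : ∀ (X : Scheme.{u}), MoreMor.HasAffineStratification X n → VanishAbove X n := by
  induction n with
  | zero =>
    intro X hX N hN p hp
    obtain ⟨s, -, hstrat⟩ := hX
    obtain ⟨Z, ι, hι₁, hZ, hι₂, hr⟩ := hstrat 0
    have hr' : Set.range ι = ((⊤ : X.Opens) : Set X) := by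
      rw [hr]; exact Set.eq_univ_of_forall fun x => Fin.fin_one_eq_zero (s x)
    have := hN
    exact (Cohom.vanishFrom_affine N (isAffineOpen_and_isAffineHom ι ⊤ hr').1).subsingleton_HH hp
  | succ n ih =>
    intro X hX N hN p hp
    obtain ⟨_, _⟩ := Strat6.qcqs_of_hasAffineStratification hX
    obtain ⟨s, hs, hstrat⟩ := hX
    let U : X.Opens := ⟨{x | s x ≤ (Fin.last n).castSucc}ᶜ, (hs _).isOpen_compl⟩
    have hUmem : ∀ x, x ∈ U ↔ s x = Fin.last (n + 1) := fun x => by
      show ¬ (s x ≤ (Fin.last n).castSucc) ↔ _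
      rw [Fin.le_def, Fin.ext_iff, Fin.val_castSucc, Fin.val_last, Fin.val_last]
      have := (s x).2
      omega
    obtain ⟨Z, ι, hι₁, hZ, hι₂, hr⟩ := hstrat (Fin.last (n + 1))
    obtain ⟨hU, hUι⟩ := isAffineOpen_and_isAffineHom ι U (by rw [hr]; ext x; exact (hUmem x).symm)
    obtain ⟨I, hI, hIs⟩ := FgSupport6.exists_fg_support_eq U hU.isCompact
    have hlast : ∀ z : I.subscheme, s (I.subschemeι z) ≠ Fin.last (n + 1) := fun z h => by
      have hz : I.subschemeι z ∈ (I.support : Set X) := by
        rw [← Scheme.IdealSheafData.range_subschemeι]; exact ⟨z, rfl⟩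
      rw [hIs] at hz
      exact hz ((hUmem _).2 h)
    have hstratZ : MoreMor.HasAffineStratification I.subscheme n := by
      refine ⟨fun z => (s (I.subschemeι z)).castPred (hlast z), fun j => ?_, fun j => ?_⟩
      · have : {z | (s (I.subschemeι z)).castPred (hlast z) ≤ j} = I.subschemeι ⁻¹' {x | s x ≤ j.castSucc} := by
          ext z
          show _ ≤ j ↔ s (I.subschemeι z) ≤ j.castSucc
          rw [← Fin.castSucc_le_castSucc_iff, Fin.castSucc_castPred]
        rw [this]
        exact (hs _).preimage I.subschemeι.continuous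
      · obtain ⟨W, κ, hκ₁, hW, hκ₂, hκr⟩ := hstrat j.castSucc
        refine ⟨pullback κ I.subschemeι, pullback.snd κ I.subschemeι, MorphismProperty.pullback_snd _ _ hκ₁,
          isAffine_of_isAffineHom (pullback.fst κ I.subschemeι), MorphismProperty.pullback_snd _ _ hκ₂, ?_⟩
        rw [Scheme.Pullback.range_snd, hκr]
        ext z
        show s (I.subschemeι z) = j.castSucc ↔ (s (I.subschemeι z)).castPred (hlast z) = j
        constructor
        · intro h; simp [h]
        · intro h; rw [← h, Fin.castSucc_castPred]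
    have hvan : ∀ (G : X.Modules), G.IsQuasicoherent → CohB1.support G ⊆ (U : Set X)ᶜ → ∀ q, n < q →
        Subsingleton (Coh.HH X G q) := fun G hG hsupp q hq => by
      letI : X.Over (Spec (CommRingCat.of (ULift.{u} ℤ))) := ⟨specULiftZIsTerminal.from X⟩
      exact subsingleton_HH_of_supported (A := ULift.{u} ℤ) G I hI (ih _ hstratZ) (by rw [hIs]; exact hsupp) q hq
    obtain ⟨m, rfl⟩ := Nat.exists_eq_succ_of_ne_zero (by omega : p ≠ 0)
    letI : X.Over (Spec (CommRingCat.of (ULift.{u} ℤ))) := ⟨specULiftZIsTerminal.from X⟩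
    haveI : IsAffine (U : Scheme.{u}) := hU
    haveI : N.IsQuasicoherent := hN
    haveI : (N.restrict U.ι).IsQuasicoherent := inferInstance
    let J := (Scheme.Modules.pushforward U.ι).obj (N.restrict U.ι)
    haveI : J.IsQuasicoherent := QCoh.isQuasicoherent_pushforward U.ι _
    let η : N ⟶ J := (Scheme.Modules.restrictAdjunction U.ι).unit.app N
    have hbij : ∀ x ∈ U, Function.Bijective (stalkLin η x) := fun x hx =>
      Euler.stalkLin_bijective_of_app_bijective η hx fun T hT => Euler.unit_app_bijective N U hT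
    have hJ : ∀ i, 1 ≤ i → Subsingleton (Coh.HH X J i) := fun i hi => by
      obtain ⟨e⟩ := Cohom.nonempty_HH_equiv_pushforward U.ι (N.restrict U.ι) i
      have := ((Cohom.vanishFrom_affine (N.restrict U.ι) (isAffineOpen_top _)).subsingleton_HH (n := i) (by omega))
      exact e.symm.toEquiv.subsingleton
    let T₁ := ShortComplex.mk (kernel.ι η) (Abelian.factorThruImage η)
      (by rw [← cancel_mono (Abelian.image.ι η), Category.assoc, Abelian.image.fac, kernel.condition, zero_comp])
    let T₂ := ShortComplex.mk (Abelian.image.ι η) (cokernel.π η) (kernel.condition (cokernel.π η))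
    have hT₂ : T₂.ShortExact :=
      { exact := ShortComplex.exact_of_f_is_kernel _ (kernelIsKernel (cokernel.π η)) }
    have hT₁ : T₁.ShortExact :=
      { exact := ShortComplex.exact_of_f_is_kernel _ (KernelFork.IsLimit.ofι' _ _ fun k hk => ⟨kernel.lift η k
          (by rw [← Abelian.image.fac η, ← Category.assoc, hk, zero_comp]), kernel.lift_ι _ _ _⟩) }
    have hK := hvan (kernel η) (isQuasicoherent_kernel η)
      fun x hx hxU => QCoh.notMem_support_kernel_of_injective η (hbij x hxU).1 hx
    have hC := hvan (cokernel η) (isQuasicoherent_cokernel η)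
      fun x hx hxU => QCoh.notMem_support_cokernel_of_surjective η (hbij x hxU).2 hx
    have hT₂1 : Subsingleton (Coh.HH X T₂.X₁ (m + 1)) := by
      have : Subsingleton (Coh.HH X T₂.X₃ m) := hC m (by omega)
      have : Subsingleton (Coh.HH X T₂.X₂ (m + 1)) := hJ (m + 1) (by omega)
      exact subsingleton_X₁ (A := ULift.{u} ℤ) hT₂ m
    have : Subsingleton (Coh.HH X T₁.X₁ (m + 1)) := hK (m + 1) (by omega)
    have : Subsingleton (Coh.HH X T₁.X₃ (m + 1)) := hT₂1
    exact subsingleton_X₂ (A := ULift.{u} ℤ) hT₁ (m + 1)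

end GrothLib.StratVanish6
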