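import Groth.Agent.Lib.QCoh.Killed
import Groth.Agent.Lib.QCoh.Filtration
import Groth.Agent.Lib.QCoh.Extension
import Groth.Agent.Lib.QCoh.Abelian
import Groth.Agent.Lib.HomColim20.Sections
import Groth.Agent.Lib.ColimCoh.Top
import Groth.Agent.Lib.Cohom.Compare
import Groth.Agent.Lib.Cohom.LinearLES
import Groth.Agent.Lib.Cohom.Vanishing
import Groth.Agent.Lib.QCoh.SupportExact
import Groth.Prelude.Def_BlowUp2

/-!
# Quasi-coherent modules with support in the zero locus of a finite type ideal

Such a module is the union of its submodules killed by the powers of the ideal, so vanishing of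
cohomology passes from modules killed by the ideal to modules supported on its zero locus.
-/

set_option linter.style.haveILetI false

universe u

open CategoryTheory CategoryTheory.Limits Opposite AlgebraicGeometry TopologicalSpace

namespace GrothLib.StratVanish6

open GrothLib.QCoh

variable {X : Scheme.{u}} (M : X.Modules) (I : X.IdealSheafData)

/-- The submodule killed by a finite type ideal is quasi-coherent. -/
theorem killed_isQuasicoherent_of_fg [M.IsQuasicoherent] (hI : BlowUp.IsFiniteTypeIdeal I) :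
    (killed M I).obj.IsQuasicoherent := by
  refine (killed M I).isQuasicoherent fun U hU g t ht ↦ ?_
  have hD := hU.basicOpen g
  rw [killed_mem_iff M I ⟨_, hD⟩] at ht
  obtain ⟨G, hG⟩ := hI ⟨U, hU⟩
  have key : ∀ a ∈ I.ideal ⟨U, hU⟩, ∃ n : ℕ, g ^ n • a • t = 0 := fun a ha ↦ by
    refine (smulLift_and_smulSep_of_isAffineOpen hU M g).2 _ ?_
    erw [M.map_smul]
    exact ht _ (I.ideal_le_comap_ideal (U := ⟨_, hD⟩) (V := ⟨U, hU⟩) (X.basicOpen_le g) ha)
  choose n hn using fun a : G ↦ key a.1 (hG.le (Ideal.subset_span a.2))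
  refine ⟨Finset.univ.sup n, (killed_mem_iff M I ⟨U, hU⟩ _).2 fun a ha ↦ ?_⟩
  rw [← hG] at ha
  induction ha using Submodule.span_induction with
  | mem x hx =>
    rw [smul_comm, ← Nat.sub_add_cancel (Finset.le_sup (f := n) (Finset.mem_univ ⟨x, hx⟩)),
      pow_add, mul_smul, hn ⟨x, hx⟩, smul_zero]
  | zero => exact zero_smul _ _
  | add x y _ _ hx hy => rw [add_smul, hx, hy, add_zero]
  | smul c x _ hx => rw [smul_eq_mul, mul_smul, hx, smul_zero]

theorem isFiniteTypeIdeal_pow (hI : BlowUp.IsFiniteTypeIdeal I) (n : ℕ) :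
    BlowUp.IsFiniteTypeIdeal (I ^ n) := fun U => by
  rw [Scheme.IdealSheafData.ideal_pow, Pi.pow_apply]
  exact (hI U).pow

variable {M}

/-- The map between submodules given by an inclusion of sections. -/
noncomputable def incl (P Q : SubData M) (h : ∀ V, P.sec V ≤ Q.sec V) : P.obj ⟶ Q.obj :=
  ⟨PresheafOfModules.homMk
    { app := fun U ↦ AddCommGrpCat.ofHom (Submodule.inclusion (h U.unop)).toAddMonoidHom
      naturality := fun _ _ _ ↦ rfl } fun _ _ _ ↦ rfl⟩

theorem incl_app_eq (P Q : SubData M) (h : ∀ V, P.sec V ≤ Q.sec V) (U : X.Opens) (s : Γ(P.obj, U)) :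
    Q.ι.app U ((incl P Q h).app U s) = P.ι.app U s := rfl

theorem incl_ι (P Q : SubData M) (h : ∀ V, P.sec V ≤ Q.sec V) : incl P Q h ≫ Q.ι = P.ι := rfl

theorem mono_incl (P Q : SubData M) (h : ∀ V, P.sec V ≤ Q.sec V) : Mono (incl P Q h) := by
  have : Mono ((incl P Q h) ≫ Q.ι) := by
    rw [incl_ι]
    refine @Functor.mono_of_mono_map _ _ _ _ (Scheme.Modules.toPresheaf _) inferInstance _ _ _ ?_
    have hU : ∀ U, Mono (((Scheme.Modules.toPresheaf _).map P.ι).app U) := fun U ↦ by
      rw [AddCommGrpCat.mono_iff_injective]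
      exact P.ι_app_injective U.unop
    exact NatTrans.mono_of_mono_app _
  exact mono_of_mono _ Q.ι

variable (M)

theorem killed_mono {k l : ℕ} (h : k ≤ l) (V : X.Opens) :
    (killed M (I ^ k)).sec V ≤ (killed M (I ^ l)).sec V := fun _ hs W hW a ha => hs W hW a (by
  rw [Scheme.IdealSheafData.ideal_pow, Pi.pow_apply] at ha ⊢
  exact Ideal.pow_le_pow_right h ha)

/-- The ascending diagram of the submodules killed by `I ^ (k + 1)`. -/
noncomputable def diag : ULift.{u} ℕ ⥤ X.Modules where
  obj k := (killed M (I ^ (k.down + 1))).obj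
  map {k l} f := incl _ _ (killed_mono M I (show k.down + 1 ≤ l.down + 1 from
    Nat.succ_le_succ (ULift.down_le.2 (leOfHom (X := ULift.{u} ℕ) f))))
  map_id _ := rfl
  map_comp _ _ := rfl

/-- The union of the submodules killed by powers of `I`. -/
noncomputable def cocone : Cocone (diag M I) where
  pt := M
  ι := { app := fun k => (killed M (I ^ (k.down + 1))).ι, naturality := fun _ _ _ => rfl }

theorem exists_pow_smul_eq_zero [M.IsQuasicoherent] (hI : BlowUp.IsFiniteTypeIdeal I)
    (hsupp : CohB1.support M ⊆ (I.support : Set X)) (V : X.affineOpens) (s : Γ(M, V.1)) :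
    ∃ N : ℕ, ∀ a ∈ I.ideal V ^ (N + 1), a • s = 0 := by
  obtain ⟨N, hN⟩ : ∃ N, I.ideal V ^ N ≤ LinearMap.ker (LinearMap.toSpanSingleton Γ(X, V.1) Γ(M, V.1) s) := by
    refine Ideal.exists_pow_le_of_le_radical_of_fg (fun a ha => ?_) (hI V)
    have h0 : M.presheaf.map (homOfLE (X.basicOpen_le a)).op s = 0 := by
      refine section_eq_zero_of_germ M _ fun x hx => ?_
      have : Subsingleton (M.presheaf.stalk x) := stalk_subsingleton_of_notMem fun hxs => by
        have hxI := hsupp hxs
        rw [SetLike.mem_coe, Scheme.IdealSheafData.mem_support_iff_of_mem (U := V) (X.basicOpen_le a hx),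
          Scheme.mem_zeroLocus_iff] at hxI
        exact hxI a ha hx
      exact Subsingleton.elim _ _
    obtain ⟨n, hn⟩ := (smulLift_and_smulSep_of_isAffineOpen V.2 M a).2 s h0
    exact ⟨n, LinearMap.mem_ker.2 (by rw [LinearMap.toSpanSingleton_apply]; exact hn)⟩
  exact ⟨N, fun a ha => by
    have := LinearMap.mem_ker.1 (hN (Ideal.pow_le_pow_right N.le_succ ha))
    rwa [LinearMap.toSpanSingleton_apply] at this⟩

theorem exists_isColimit [CompactSpace X] [QuasiSeparatedSpace X] [M.IsQuasicoherent]
    (hI : BlowUp.IsFiniteTypeIdeal I) (hsupp : CohB1.support M ⊆ (I.support : Set X)) :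
    Nonempty (IsColimit (cocone M I)) := by
  let φ : colimit (diag M I) ⟶ M := colimit.desc _ (cocone M I)
  have : ∀ k, ((diag M I).obj k).IsQuasicoherent := fun k =>
    killed_isQuasicoherent_of_fg M _ (isFiniteTypeIdeal_pow I hI _)
  have : (colimit (diag M I)).IsQuasicoherent := isQuasicoherent_colimit (diag M I) this
  have hφ : ∀ k, colimit.ι (diag M I) k ≫ φ = (cocone M I).ι.app k := fun k => colimit.ι_desc _ _
  have hbij : ∀ V : X.affineOpens, Function.Bijective (φ.app V.1) := by
    intro V
    constructor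
    · refine (injective_iff_map_eq_zero _).2 fun t ht => ?_
      obtain ⟨k, x, rfl⟩ := HomColim20.sec_gen (colimit.isColimit (diag M I)) V.2.isCompact t
      have hx : ((cocone M I).ι.app k).app V.1 x = 0 := by
        rw [← hφ k]
        exact ht
      have : x = 0 := (killed M (I ^ (k.down + 1))).ι_app_injective V.1 (hx.trans (map_zero _).symm)
      rw [this, map_zero]
    · intro s
      obtain ⟨N, hN⟩ := exists_pow_smul_eq_zero M I hI hsupp V s
      have hs : s ∈ (killed M (I ^ (N + 1))).sec V.1 := (killed_mem_iff M _ V s).2 fun a ha => hN a (by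
        rwa [Scheme.IdealSheafData.ideal_pow, Pi.pow_apply] at ha)
      refine ⟨(colimit.ι (diag M I) ⟨N⟩).app V.1 ((killed M (I ^ (N + 1))).lift s hs), ?_⟩
      change ((colimit.ι (diag M I) ⟨N⟩) ≫ φ).app V.1 _ = s
      rw [hφ]
      rfl
  have : IsIso φ := isIso_of_bijective_on_cover φ (fun V : X.affineOpens => V.1)
    (iSup_affineOpens_eq_top X) (fun V => V.2) hbij
  exact ⟨IsColimit.ofPointIso (colimit.isColimit (diag M I)) (i := this)⟩

end GrothLib.StratVanish6
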